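import Cfsg.Agent.GeoMax.ONDMain
import Cfsg.Agent.GeoMax.OTransport

/-!
Applications: nonsingular points in characteristic two; isometric halves; glue with `Cfsg.Geo`.
-/

set_option autoImplicit false
set_option linter.unusedSectionVars false

namespace Cfsg.Agent.GeoMax.Ort

open QuadraticMap Module Cfsg.Agent.Orth

variable {F V : Type*} [Field F] [AddCommGroup V] [Module F V]
variable [Finite F] [FiniteDimensional F V] {Q : QuadraticForm F V}

theorem exists_sing_perp_notMem (hQ : (polarBilin Q).Nondegenerate)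
    (X : Submodule F V) (hX : 2 * finrank F X + 3 ≤ finrank F V) : ∃ s ∈ perp Q X, s ∉ X ∧ s ≠ 0 ∧ Q s = 0 := by
  have hP := finrank_perp hQ X
  obtain ⟨C, hC⟩ := Submodule.exists_isCompl X
  have hCfin : finrank F X + finrank F C = finrank F V := Submodule.finrank_add_eq_of_isCompl hC
  have hPC : 3 ≤ finrank F ↥(perp Q X ⊓ C) := by
    have h1 := Submodule.finrank_sup_add_finrank_inf_eq (perp Q X) C
    have h2 := Submodule.finrank_le (perp Q X ⊔ C)
    omega
  obtain ⟨s₀, hs₀, hs₀0, hs₀q⟩ := exists_sing_mem Q _ hPC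
  refine ⟨s₀, hs₀.1, ?_, hs₀0, hs₀q⟩
  intro h
  apply hs₀0
  have := hC.disjoint
  rw [Submodule.disjoint_def] at this
  exact this _ h hs₀.2

theorem polar_eich_self {s a b : V} (ha : Q a = 0) (hab : polar Q a b = 0) (hs : Q s = 0) :
    polar Q ((eich Q a b ha hab : V ≃ₗ[F] V) s) s = -(Q b * (polar Q s a * polar Q s a)) := by
  rw [eich_apply, pdl, pdl, pal, psl, psl, psl, pself, hs, pc Q a s, pc Q b s]
  ring

/-- the stabiliser of a non-singular point (any characteristic) in `Ω` is maximal -/
theorem point_maximal (hQ : (polarBilin Q).Nondegenerate) (hN : 13 ≤ finrank F V) {v : V} (hv : Q v ≠ 0) :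
    Cfsg.Geo.IsMaximalIn (commutator (OGrp Q)) (stabO Q (Submodule.span F {v}) ⊓ commutator (OGrp Q)) := by
  have hNV : 7 ≤ finrank F V := by omega
  have hv0 : v ≠ 0 := by rintro rfl; exact hv (QuadraticMap.map_zero Q)
  constructor
  · refine lt_of_le_of_ne inf_le_right ?_
    intro heq
    obtain ⟨y, hy⟩ := exists_polar_ne hQ hv0
    obtain ⟨a, haq, ha⟩ := repV hQ [v] (by simp; omega) y 0
    have hva : polar Q v a ≠ 0 := by rw [pc, ha v (by simp)]; exact hy
    obtain ⟨b, hbq, hb⟩ := repV hQ [a, v] (by simp; omega) 0 1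
    have hab : polar Q a b = 0 := by rw [pc, hb a (by simp), polar_zero_left]
    have hvb : polar Q v b = 0 := by rw [pc, hb v (by simp), polar_zero_left]
    have hmem : eich Q a b haq hab ∈ stabO Q (Submodule.span F {v}) ⊓ commutator (OGrp Q) := by
      rw [heq]; exact eich_mem_commutator hQ hNV _ _
    have h1 := (mem_stabO.1 hmem.1 v).1 (Submodule.mem_span_singleton_self v)
    rw [eich_apply, hvb, zero_smul, add_zero, hbq, one_mul] at h1
    obtain ⟨c, hc⟩ := Submodule.mem_span_singleton.1 h1
    have h2 := congrArg (fun w => polar Q w a) hc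
    simp only [psl, pdl, pself, haq, pc Q b a, hab] at h2
    have h3 : (c - 1) * polar Q v a = 0 := by linear_combination h2
    have h4 := (mul_eq_zero.1 h3).resolve_right hva
    have h5 : polar Q v a • (b + a) = 0 := by
      have : polar Q v a • (b + a) = v - (v - polar Q v a • b - polar Q v a • a) := by module
      rw [this, ← hc]
      have h6 : c = 1 := sub_eq_zero.1 h4
      rw [h6, one_smul, sub_self]
    have h6 := (smul_eq_zero.1 h5).resolve_left hva
    have h7 : b = -a := eq_neg_of_add_eq_zero_left h6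
    rw [h7, QuadraticMap.map_neg, haq] at hbq
    exact zero_ne_one hbq
  · intro M hHM hMI
    by_cases hMH : M = stabO Q (Submodule.span F {v}) ⊓ commutator (OGrp Q)
    · exact Or.inl hMH
    right
    refine le_antisymm hMI ?_
    have hMU : ∀ a b : V, polar Q v a = 0 → polar Q v b = 0 → Q a = 0 → polar Q a b = 0 → HasE M a b := by
      intro a b ha hb haq hab
      refine ⟨haq, hab, hHM ⟨mem_stabO_of_le fun x hx => ?_, eich_mem_commutator hQ hNV _ _⟩⟩
      obtain ⟨c, rfl⟩ := Submodule.mem_span_singleton.1 hx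
      rw [eich_apply, psl, psl, ha, hb]
      simpa using hx
    obtain ⟨g, hgM, hg⟩ : ∃ g ∈ M, g ∉ stabO Q (Submodule.span F {v}) := by
      by_contra hcon
      push Not at hcon
      exact hMH (le_antisymm (fun g hg => ⟨hcon g hg, hMI hg⟩) hHM)
    set v' := (g : V ≃ₗ[F] V) v with hv'
    have hv'0 : v' ≠ 0 := by
      intro h
      apply hv
      rw [← OGrp_q g, ← hv', h, QuadraticMap.map_zero]
    have hv'v : v' ∉ Submodule.span F {v} := by
      intro h
      apply hg
      refine mem_stabO_of_le fun x hx => ?_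
      obtain ⟨c, rfl⟩ := Submodule.mem_span_singleton.1 hx
      rw [map_smul]
      exact Submodule.smul_mem _ _ h
    have hMU' : ∀ a b : V, polar Q v' a = 0 → polar Q v' b = 0 → Q a = 0 → polar Q a b = 0 → HasE M a b := by
      intro a b ha hb haq hab
      have h1 : ∀ z, polar Q v' z = 0 → polar Q v (((g⁻¹ : OGrp Q) : V ≃ₗ[F] V) z) = 0 := by
        intro z hz
        rw [← OGrp_polar g, coe_apply_inv_self]; exact hz
      have h2 := (hMU (((g⁻¹ : OGrp Q) : V ≃ₗ[F] V) a) (((g⁻¹ : OGrp Q) : V ≃ₗ[F] V) b) (h1 a ha) (h1 b hb)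
        (by rw [OGrp_q, haq]) (by rw [OGrp_polar, hab])).conj hgM
      rwa [coe_apply_inv_self, coe_apply_inv_self] at h2
    -- a singular vector orthogonal to both
    obtain ⟨u, huP, huX, hu0, huq⟩ := exists_sing_perp_notMem hQ (Submodule.span F {x | x ∈ [v, v']}) (by
      have := Symp.finrank_span_list_le (K := F) [v, v']
      simp only [List.length_cons, List.length_nil] at this
      omega)
    have hvu : polar Q v u = 0 := huP v (Submodule.subset_span (by simp))
    have hv'u : polar Q v' u = 0 := huP v' (Submodule.subset_span (by simp))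
    -- `v` is not in the span of `u`, `v'`
    have hvX : v ∉ Submodule.span F {u, v'} := by
      intro h
      obtain ⟨a, b, hab⟩ := Submodule.mem_span_pair.1 h
      by_cases ha : a = 0
      · rw [ha, zero_smul, zero_add] at hab
        exact notMem_span_symm hv0 hv'v (Submodule.mem_span_singleton.2 ⟨b, hab⟩)
      · apply huX
        have h1 : u = a⁻¹ • (v - b • v') := by
          rw [← hab, add_sub_cancel_right, smul_smul, inv_mul_cancel₀ ha, one_smul]
        rw [h1]
        exact Submodule.smul_mem _ _ (Submodule.sub_mem _ (Submodule.subset_span (by simp))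
          (Submodule.smul_mem _ _ (Submodule.subset_span (by simp))))
    obtain ⟨b₂, hb₂, hb₂v⟩ := exists_ortho_not hQ _ hvX
    have hb₂u : polar Q u b₂ = 0 := by rw [pc]; exact hb₂ u (Submodule.subset_span (by simp))
    have hb₂v' : polar Q v' b₂ = 0 := by rw [pc]; exact hb₂ v' (Submodule.subset_span (by simp))
    have hFu : FullR M u := by
      intro b hb
      have h1 := hMU' u ((polar Q b v) • b₂) hv'u (by rw [psr, hb₂v', mul_zero]) huq (by rw [psr, hb₂u, mul_zero])
      have h2 := hMU u (b - (polar Q b v) • b₂) hvu (by rw [pdr, psr, pc Q v b₂, hb₂v, pc]; ring) huq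
        (by rw [pdr, psr, hb, hb₂u]; ring)
      have h3 := h2.add h1
      rwa [sub_add_cancel] at h3
    -- a second one
    have huv : u ∉ Submodule.span F {v} := by
      intro h
      apply huX
      refine Submodule.span_mono ?_ h
      rintro _ rfl
      simp
    obtain ⟨y, hy, hyu⟩ := exists_ortho_not hQ _ huv
    obtain ⟨a, haq, ha⟩ := repV hQ [v, u] (by simp; omega) y 0
    have hav : polar Q v a = 0 := by rw [pc, ha v (by simp)]; exact hy v (Submodule.mem_span_singleton_self v)
    have hau : polar Q u a = 1 := by rw [pc, ha u (by simp)]; exact hyu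
    obtain ⟨b, hbq, hb⟩ := repV hQ [v, a] (by simp; omega) 0 1
    have hvb : polar Q v b = 0 := by rw [pc, hb v (by simp), polar_zero_left]
    have hab : polar Q a b = 0 := by rw [pc, hb a (by simp), polar_zero_left]
    obtain ⟨_, _, ht⟩ := hMU a b hav hvb haq hab
    have hF2 := hFu.conj ht
    refine commutator_le_of_FullR hQ hNV hFu hF2 ?_
    rw [polar_eich_self haq hab huq, hbq, hau]
    simp

/-! ### Glue with `Cfsg.Geo` -/

lemma inf_perp_of_nd {W : Submodule F V} (h : ∀ w ∈ W, w ≠ 0 → ∃ x ∈ W, polar Q x w ≠ 0) : W ⊓ perp Q W = ⊥ := by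
  rw [eq_bot_iff]
  rintro x ⟨hx1, hx2⟩
  rw [Submodule.mem_bot]
  by_contra hne
  obtain ⟨y, hy, hyx⟩ := h x hx1 hne
  exact hyx (hx2 y hy)

end Cfsg.Agent.GeoMax.Ort
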