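import Cfsg.Agent.GeoMax.OSLMain
import Cfsg.Agent.GeoMax.UniStd
import Cfsg.Agent.S5660

/-!
Orthogonal subgroups of `SU_n(q)`, `q` odd.
-/

set_option autoImplicit false
set_option linter.unusedSectionVars false

namespace Cfsg.Agent.GeoMax.USO

open QuadraticMap Module Cfsg.Agent.Orth Cfsg.Agent.GeoMax.Ort Cfsg.Agent.GeoMax.Un
open Matrix
open scoped MatrixGroups
open Cfsg.Geo
open Cfsg.Agent.GeoMax.Symp (emb emb_apply emb_zero emb_eq_zero)

variable {F : Type*} [Field F] [Fintype F] {n q : ℕ} {F₀ : Subfield F} {P : GL (Fin n) F}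
variable {Q : QuadraticForm F₀ (Fin n → F₀)} {ω : F}

/-- vector over the rational structure -/
abbrev e (F₀ : Subfield F) (P : GL (Fin n) F) (x : Fin n → F₀) : Fin n → F := S5660.E F₀ P x

/-- the data of a rational quadratic structure on the hermitian space -/
structure Dat (q : ℕ) (P : GL (Fin n) F) (Q : QuadraticForm F₀ (Fin n → F₀)) (ω : F) : Prop where
  hF : Fintype.card F = q ^ 2
  hcard : Fintype.card F = Nat.card F₀ ^ 2
  form : ∀ x y : Fin n → F₀, Cfsg.hermForm n F q (e F₀ P x) (e F₀ P y) = ((polar Q x y : F₀) : F)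
  nd : (polarBilin Q).Nondegenerate
  two : (2 : F₀) ≠ 0
  sk : ω ^ q = -ω
  ne : ω ≠ 0
  dim : 13 ≤ n

namespace Dat

section basic
variable (D : Dat q P Q ω)
include D

theorem two' : (2 : F) ≠ 0 := by
  intro h; exact D.two (Subtype.ext (by push_cast; exact h))

theorem notMem : ω ∉ F₀ := by
  intro h
  have h1 := S5660.pow_q_of_mem D.hF D.hcard h
  rw [D.sk] at h1
  have h2 : (2 : F) * ω = 0 := by linear_combination -h1
  exact (mul_ne_zero D.two' D.ne) h2

omit D in
theorem coe2 : ((2 : F₀) : F) = 2 := rfl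

theorem frk : finrank F₀ (Fin n → F₀) = n := by
  rw [Module.finrank_fintype_fun_eq_card, Fintype.card_fin]

theorem pow_mem (c : F₀) : (c : F) ^ q = c := S5660.pow_q_of_mem D.hF D.hcard c.2

theorem herm (x y z w : Fin n → F₀) :
    Cfsg.hermForm n F q (e F₀ P x + ω • e F₀ P y) (e F₀ P z + ω • e F₀ P w) =
      ((polar Q x z : F₀) : F) - ω * ω * ((polar Q y w : F₀) : F) + ω * (((polar Q y z : F₀) : F) - ((polar Q x w : F₀) : F)) := by
  rw [Uni.hermForm_add_left, Uni.hermForm_add_right D.hF, Uni.hermForm_add_right D.hF, Uni.hermForm_smul_left,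
    Uni.hermForm_smul_left, Uni.hermForm_smul_right, Uni.hermForm_smul_right, D.form, D.form, D.form, D.form, D.sk]
  ring

theorem exists_e (x : Fin n → F) : ∃ a b : Fin n → F₀, x = e F₀ P a + ω • e F₀ P b :=
  S5660.exists_E D.hcard D.notMem x

theorem indep {x y : Fin n → F₀} (h : e F₀ P x + ω • e F₀ P y = 0) : x = 0 ∧ y = 0 := by
  have h1 : emb F₀ x + ω • emb F₀ y = 0 := by
    apply gl_mulVec_injective P
    change (P : Matrix (Fin n) (Fin n) F) *ᵥ (emb F₀ x + ω • emb F₀ y) = (P : Matrix (Fin n) (Fin n) F) *ᵥ 0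
    rw [Matrix.mulVec_add, Matrix.mulVec_smul, Matrix.mulVec_zero]; exact h
  have h2 : y = 0 := by
    by_contra hy0
    obtain ⟨i, hi⟩ := Function.ne_iff.1 hy0
    have h3 := congrFun h1 i
    simp only [emb_apply, Pi.add_apply, Pi.smul_apply, smul_eq_mul, Pi.zero_apply] at h3
    have h4 : (y i : F) ≠ 0 := by
      intro h0; exact hi (Subtype.ext h0)
    apply D.notMem
    have : ω = ((-(x i) / y i : F₀) : F) := by
      push_cast; rw [eq_div_iff h4]; linear_combination h3
    rw [this]; exact SetLike.coe_mem _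
  refine ⟨?_, h2⟩
  rw [h2, emb_zero, smul_zero, add_zero] at h1
  exact emb_eq_zero.1 h1

end basic

theorem e_add (x y : Fin n → F₀) : e F₀ P (x + y) = e F₀ P x + e F₀ P y := S5660.E_add x y
theorem e_smul (c : F₀) (x : Fin n → F₀) : e F₀ P (c • x) = (c : F) • e F₀ P x := S5660.E_smul c x
theorem e_sub (x y : Fin n → F₀) : e F₀ P (x - y) = e F₀ P x - e F₀ P y := by
  rw [sub_eq_add_neg, e_add, ← neg_one_smul F₀, e_smul]
  push_cast
  rw [neg_one_smul, sub_eq_add_neg]
theorem e_zero : e F₀ P (0 : Fin n → F₀) = 0 := (S5660.E_eq_zero (P := P)).2 rfl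

theorem uniq (D : Dat q P Q ω) {x y z w : Fin n → F₀} (h : e F₀ P x + ω • e F₀ P y = e F₀ P z + ω • e F₀ P w) :
    x = z ∧ y = w := by
  have h1 : e F₀ P (x - z) + ω • e F₀ P (y - w) = 0 := by
    rw [e_sub, e_sub]
    have : e F₀ P x - e F₀ P z + ω • (e F₀ P y - e F₀ P w) =
        (e F₀ P x + ω • e F₀ P y) - (e F₀ P z + ω • e F₀ P w) := by module
    rw [this, h, sub_self]
  obtain ⟨h2, h3⟩ := D.indep h1
  exact ⟨sub_eq_zero.1 h2, sub_eq_zero.1 h3⟩

/-! ### the embedding of the orthogonal group -/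

/-- the embedding -/
noncomputable def em (P : GL (Fin n) F) (Q : QuadraticForm F₀ (Fin n → F₀)) : OGrp Q →* GL (Fin n) F :=
  (MulAut.conj P).toMonoidHom.comp ((Matrix.GeneralLinearGroup.map (F₀.subtype : F₀ →+* F)).comp (emGL Q))

theorem em_e (g : OGrp Q) (x : Fin n → F₀) :
    (em P Q g : Matrix (Fin n) (Fin n) F) *ᵥ e F₀ P x = e F₀ P ((g : (Fin n → F₀) ≃ₗ[F₀] (Fin n → F₀)) x) := by
  change ((P * (Matrix.GeneralLinearGroup.map (F₀.subtype : F₀ →+* F) (emGL Q g)) * P⁻¹ : GL (Fin n) F) :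
    Matrix (Fin n) (Fin n) F) *ᵥ _ = _
  rw [gl_mul_mulVec, gl_mul_mulVec]
  change (P : Matrix (Fin n) (Fin n) F) *ᵥ (_ *ᵥ (((P⁻¹ : GL (Fin n) F) : Matrix (Fin n) (Fin n) F) *ᵥ
    ((P : Matrix (Fin n) (Fin n) F) *ᵥ emb F₀ x))) = (P : Matrix (Fin n) (Fin n) F) *ᵥ _
  rw [gl_inv_mulVec]
  congr 1
  rw [← emGL_mulVec]
  ext i
  simp [Matrix.mulVec, dotProduct, emb]

section emb
variable (D : Dat q P Q ω)
include D

theorem em_sub (g : OGrp Q) : em P Q g ∈ subfieldSubgroup F₀ P := by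
  rw [S5660.mem_sub_iff]
  exact ⟨1, one_ne_zero, fun y => ⟨_, by rw [one_smul]; exact em_e g y⟩⟩

theorem em_GU (g : OGrp Q) : em P Q g ∈ Cfsg.GU n F q := by
  rw [mem_GU]
  intro u v
  obtain ⟨a, b, rfl⟩ := D.exists_e u
  obtain ⟨c, d, rfl⟩ := D.exists_e v
  rw [Matrix.mulVec_add, Matrix.mulVec_add, Matrix.mulVec_smul, Matrix.mulVec_smul, em_e, em_e, em_e, em_e, D.herm, D.herm,
    OGrp_polar, OGrp_polar, OGrp_polar, OGrp_polar]

omit D in
theorem em_SL {g : OGrp Q} (hg : g ∈ commutator (OGrp Q)) : em P Q g ∈ specialLinear (Fin n) F := by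
  have h3 : (Matrix.GeneralLinearGroup.det.comp (em P Q)) g = 1 :=
    Abelianization.commutator_subset_ker (Matrix.GeneralLinearGroup.det.comp (em P Q)) hg
  exact h3

theorem em_mem {g : OGrp Q} (hg : g ∈ commutator (OGrp Q)) :
    em P Q g ∈ subfieldSubgroup F₀ P ⊓ (Cfsg.GU n F q ⊓ specialLinear (Fin n) F) :=
  Subgroup.mem_inf.2 ⟨D.em_sub g, Subgroup.mem_inf.2 ⟨D.em_GU g, em_SL hg⟩⟩

/-- the Siegel element on the big space -/
theorem em_eich {a b : Fin n → F₀} (ha : Q a = 0) (hab : polar Q a b = 0) (x : Fin n → F) :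
    (em P Q (eich Q a b ha hab) : Matrix (Fin n) (Fin n) F) *ᵥ x = x + Cfsg.hermForm n F q x (e F₀ P b) • e F₀ P a -
      Cfsg.hermForm n F q x (e F₀ P a) • e F₀ P b - (((Q b : F₀) : F) * Cfsg.hermForm n F q x (e F₀ P a)) • e F₀ P a := by
  obtain ⟨y, z, rfl⟩ := D.exists_e x
  rw [Matrix.mulVec_add, Matrix.mulVec_smul, em_e, em_e, eich_apply, eich_apply]
  simp only [e_add, e_sub, e_smul, Uni.hermForm_add_left, Uni.hermForm_smul_left, D.form]
  push_cast
  module

end emb

/-! ### generation of the special unitary group -/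

section gen
variable (D : Dat q P Q ω) {M : Subgroup (GL (Fin n) F)}
include D

theorem sing_iff (a b : Fin n → F₀) : Cfsg.hermForm n F q (e F₀ P a + ω • e F₀ P b) (e F₀ P a + ω • e F₀ P b) = 0 ↔
    ((Q a : F₀) : F) = ω * ω * ((Q b : F₀) : F) := by
  rw [D.herm, pself, pself, pc Q b a, sub_self, mul_zero, add_zero]
  push_cast
  rw [coe2]
  constructor
  · intro h
    have h1 : (2 : F) * (((Q a : F₀) : F) - ω * ω * ((Q b : F₀) : F)) = 0 := by linear_combination h
    exact sub_eq_zero.1 ((mul_eq_zero.1 h1).resolve_left D.two')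
  · intro h
    linear_combination 2 * h

theorem e_iso {a : Fin n → F₀} (ha : Q a = 0) : Cfsg.hermForm n F q (e F₀ P a) (e F₀ P a) = 0 := by
  rw [D.form, pself, ha, mul_zero]; rfl

/-- the isotropic vectors of a hyperbolic line -/
theorem line (hM : M ≤ Cfsg.GU n F q ⊓ specialLinear (Fin n) F) {u w : Fin n → F} {μ : F} (hu : UT q M u) (hw : UT q M w)
    (huu : Cfsg.hermForm n F q u u = 0) (hww : Cfsg.hermForm n F q w w = 0) (huw : Cfsg.hermForm n F q w u ≠ 0)
    (h : Cfsg.hermForm n F q (w + μ • u) (w + μ • u) = 0) : UT q M (w + μ • u) := by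
  have hwu : Cfsg.hermForm n F q u w = (Cfsg.hermForm n F q w u) ^ q := (Uni.hermForm_symm D.hF _ _).symm
  have hqq : (Cfsg.hermForm n F q u w) ^ q = Cfsg.hermForm n F q w u := Uni.hermForm_symm D.hF _ _
  have h1 : μ * Cfsg.hermForm n F q u w + μ ^ q * Cfsg.hermForm n F q w u = 0 := by
    rw [Uni.hermForm_add_left, Uni.hermForm_add_right D.hF, Uni.hermForm_add_right D.hF, Uni.hermForm_smul_left,
      Uni.hermForm_smul_left, Uni.hermForm_smul_right, Uni.hermForm_smul_right, huu, hww] at h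
    linear_combination h
  have hc : (μ / Cfsg.hermForm n F q w u) ^ q = -(μ / Cfsg.hermForm n F q w u) := by
    rw [div_pow, ← hwu, eq_neg_iff_add_eq_zero]
    have h3 : Cfsg.hermForm n F q u w ≠ 0 := by rw [hwu]; exact pow_ne_zero _ huw
    field_simp
    linear_combination h1
  obtain ⟨h0, hm⟩ := (hasT_iff _ _ _).1 (hu _ hc)
  have h4 := hw.conj (hM hm).1 hm
  rw [tvec_mulVec, smul_dotProduct, cv_dotProduct, smul_eq_mul, div_mul_cancel₀ _ huw] at h4
  exact h4

/-- one rational centre suffices -/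
theorem su_le_of_UT (hM : M ≤ Cfsg.GU n F q ⊓ specialLinear (Fin n) F) (hE : ∀ a b, Q a = 0 → polar Q a b = 0 → HasE (M.comap (em P Q)) a b)
    {a : Fin n → F₀} (ha : Q a = 0) (ha0 : a ≠ 0) (h : UT q M (e F₀ P a)) :
    Cfsg.GU n F q ⊓ specialLinear (Fin n) F ≤ M := by
  have hfr := D.frk
  have hdim := D.dim
  -- all rational centres
  have h1 : ∀ b, Q b = 0 → UT q M (e F₀ P b) := by
    intro b hb
    by_cases hb0 : b = 0
    · rw [hb0, e_zero]; intro c _; exact HasT.zero_left _ _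
    obtain ⟨g, hg, hgb⟩ := exists_mem_move D.nd (by omega) hE ha0 hb0 (ha.trans hb.symm)
    have := h.conj (D.em_GU g) hg
    rwa [em_e, hgb] at this
  have hsm : ∀ (k : F) b, Q b = 0 → UT q M (k • e F₀ P b) := fun k b hb => (h1 b hb).smul D.hF k
  -- dependent pairs
  have hdep : ∀ a b : Fin n → F₀, (a = 0 ∨ b ∈ Submodule.span F₀ {a}) → Q a = 0 → Q b = 0 →
      UT q M (e F₀ P a + ω • e F₀ P b) := by
    rintro a b (rfl | h) ha hb
    · rw [e_zero, zero_add]; exact hsm _ _ hb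
    · obtain ⟨c, rfl⟩ := Submodule.mem_span_singleton.1 h
      have : e F₀ P a + ω • e F₀ P (c • a) = (1 + ω * c) • e F₀ P a := by rw [e_smul]; module
      rw [this]; exact hsm _ _ ha
  have hhyp : ∀ a b : Fin n → F₀, Q a = 0 → Q b = 0 → polar Q a b ≠ 0 → UT q M (e F₀ P a + ω • e F₀ P b) := by
    intro a b ha hb hab
    refine D.line hM (h1 b hb) (h1 a ha) (D.e_iso hb) (D.e_iso ha) ?_ ?_
    · rw [D.form]; intro h0; exact hab (Subtype.ext h0)
    · rw [D.sing_iff, ha, hb]; simp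
  -- both parts singular
  have h2 : ∀ a b : Fin n → F₀, Q a = 0 → Q b = 0 → UT q M (e F₀ P a + ω • e F₀ P b) := by
    intro a b ha hb
    by_cases hd : a = 0 ∨ b ∈ Submodule.span F₀ {a}
    · exact hdep a b hd ha hb
    push Not at hd
    by_cases hab : polar Q a b = 0
    swap
    · exact hhyp a b ha hb hab
    -- `c ⊥ b`, `B(a,c) ≠ 0`
    have han : a ∉ Submodule.span F₀ {x | x ∈ [b]} := by
      intro hm
      have e : ({x | x ∈ [b]} : Set (Fin n → F₀)) = {b} := by ext z; simp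
      rw [e] at hm
      obtain ⟨k, hk⟩ := Submodule.mem_span_singleton.1 hm
      have hk0 : k ≠ 0 := by rintro rfl; rw [zero_smul] at hk; exact hd.1 hk.symm
      apply hd.2
      rw [Submodule.mem_span_singleton]
      exact ⟨k⁻¹, by rw [← hk, smul_smul, inv_mul_cancel₀ hk0, one_smul]⟩
    obtain ⟨y, hy, hya⟩ := exists_sep D.nd [b] han
    obtain ⟨c, hc, hcl⟩ := repV D.nd [b, a] (by simp; omega) y 0
    have hcb : polar Q c b = 0 := by rw [hcl b (by simp)]; exact hy b (by simp)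
    have hca : polar Q c a = 1 := by rw [hcl a (by simp), hya]
    have hw := hhyp a (b - c) ha (by rw [qsub, hb, hc, pc, hcb]; ring) (by
      rw [pdr, hab, pc, hca, zero_sub]; exact neg_ne_zero.2 one_ne_zero)
    have hwv : e F₀ P a + ω • e F₀ P b = (e F₀ P a + ω • e F₀ P (b - c)) + ω • e F₀ P c := by
      rw [e_sub]; module
    rw [hwv]
    refine D.line hM (h1 c hc) hw (D.e_iso hc) ?_ ?_ ?_
    · rw [D.sing_iff, ha, qsub, hb, hc, pc Q b c, hcb]; simp
    · have : Cfsg.hermForm n F q (e F₀ P a + ω • e F₀ P (b - c)) (e F₀ P c) =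
          Cfsg.hermForm n F q (e F₀ P a + ω • e F₀ P (b - c)) (e F₀ P c + ω • e F₀ P 0) := by
        rw [e_zero, smul_zero, add_zero]
      rw [this, D.herm, polar_zero_right, polar_zero_right, pc Q a c, hca, pdl, pc Q b c, hcb, pself, hc]
      simp
    · rw [← hwv, D.sing_iff, ha, hb]; simp
  -- all
  refine su_le D.hF (by omega) M fun v hv => ?_
  obtain ⟨a, b, rfl⟩ := D.exists_e v
  rw [D.sing_iff] at hv
  by_cases hQa : Q a = 0
  · refine h2 a b hQa ?_
    rw [hQa] at hv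
    have : (ω * ω) * ((Q b : F₀) : F) = 0 := by rw [← hv]; rfl
    exact Subtype.ext ((mul_eq_zero.1 this).resolve_left (mul_ne_zero D.ne D.ne))
  · have hQb : Q b ≠ 0 := by
      intro h0
      rw [h0] at hv
      exact hQa (Subtype.ext (by rw [hv]; simp))
    have ha0 : a ≠ 0 := by rintro rfl; exact hQa (QuadraticMap.map_zero Q)
    have hb0 : b ≠ 0 := by rintro rfl; exact hQb (QuadraticMap.map_zero Q)
    obtain ⟨y, -, hy1, hy2⟩ := exists_polar_ne_two (Q := Q) (P := ⊤) (a := a) (b := b)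
      (by obtain ⟨y, hy⟩ := exists_polar_ne D.nd ha0; exact ⟨y, trivial, by rw [pc]; exact hy⟩)
      (by obtain ⟨y, hy⟩ := exists_polar_ne D.nd hb0; exact ⟨y, trivial, by rw [pc]; exact hy⟩)
    obtain ⟨c, hc, hcl⟩ := repV D.nd [a, b] (by simp; omega) y 0
    have hac : polar Q a c ≠ 0 := by rw [pc, hcl a (by simp), pc]; exact hy1
    have hbc : polar Q b c ≠ 0 := by rw [pc, hcl b (by simp), pc]; exact hy2
    set α : F₀ := Q a / polar Q a c with hα
    set β : F₀ := Q b / polar Q b c with hβ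
    have hqa : Q (a - α • c) = 0 := by
      rw [qsub, qsmul, hc, psr, hα]; field_simp; ring
    have hqb : Q (b - β • c) = 0 := by
      rw [qsub, qsmul, hc, psr, hβ]; field_simp; ring
    have hw := h2 _ _ hqa hqb
    have hwv : e F₀ P a + ω • e F₀ P b = (e F₀ P (a - α • c) + ω • e F₀ P (b - β • c)) + ((α : F) + ω * β) • e F₀ P c := by
      rw [e_sub, e_sub, e_smul, e_smul]; module
    rw [hwv]
    refine D.line hM (h1 c hc) hw (D.e_iso hc) ?_ ?_ ?_
    · rw [D.sing_iff, hqa, hqb]; simp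
    · have : Cfsg.hermForm n F q (e F₀ P (a - α • c) + ω • e F₀ P (b - β • c)) (e F₀ P c) =
          Cfsg.hermForm n F q (e F₀ P (a - α • c) + ω • e F₀ P (b - β • c)) (e F₀ P c + ω • e F₀ P 0) := by
        rw [e_zero, smul_zero, add_zero]
      rw [this, D.herm, polar_zero_right, polar_zero_right, pdl, pdl, psl, psl, pself, hc]
      intro h0
      have h3 : ω * ((polar Q b c : F₀) : F) = -((polar Q a c : F₀) : F) := by
        simp only [mul_zero, sub_zero] at h0
        push_cast at h0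
        linear_combination h0
      apply D.notMem
      have h4 : ((polar Q b c : F₀) : F) ≠ 0 := fun h => hbc (Subtype.ext h)
      have : ω = ((-(polar Q a c) / polar Q b c : F₀) : F) := by
        push_cast; rw [eq_div_iff h4]; exact h3
      rw [this]; exact SetLike.coe_mem _
    · rw [← hwv, D.sing_iff, hv]

end gen

end Dat

end Cfsg.Agent.GeoMax.USO
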